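import Mathlib.AlgebraicGeometry.Noetherian
import Mathlib.AlgebraicGeometry.Stalk
import Mathlib.AlgebraicGeometry.Morphisms.QuasiCompact
import Mathlib.Topology.Connected.LocallyConnected
import Mathlib.Topology.Connected.Clopen

/-!
Irreducible components of schemes and of spaces with Noetherian neighbourhoods; generic points in the
closure of the image of a quasi-compact morphism.
-/

open AlgebraicGeometry CategoryTheory TopologicalSpace Topology Set

universe u

namespace Groth.Agent.SchPoints

section Topology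

variable {T : Type*} [TopologicalSpace T]

theorem closure_mem_irreducibleComponents_iff [QuasiSober T] {x : T} :
    closure {x} ∈ irreducibleComponents T ↔ ∀ y, y ⤳ x → x ⤳ y := by
  constructor
  · intro h y hy
    exact specializes_iff_mem_closure.2
      (h.2 isIrreducible_singleton.closure hy.closure_subset (subset_closure rfl))
  · intro h
    refine ⟨isIrreducible_singleton.closure, fun u hu hle => ?_⟩
    obtain ⟨w, hw⟩ := QuasiSober.sober hu.closure isClosed_closure
    have hwx : w ⤳ x := hw.specializes (subset_closure (hle (subset_closure rfl)))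
    exact subset_closure.trans (hw.def.symm.subset.trans (h w hwx).closure_subset)

theorem isOpen_connectedComponent_of_noetherian [NoetherianSpace T] (x : T) :
    IsOpen (connectedComponent x) := by
  have key : (connectedComponent x)ᶜ =
      ⋃ Z ∈ {Z ∈ irreducibleComponents T | Disjoint Z (connectedComponent x)}, Z := by
    refine Subset.antisymm (fun y hy => mem_iUnion₂.2
      ⟨irreducibleComponent y, ⟨irreducibleComponent_mem_irreducibleComponents y, ?_⟩,
        mem_irreducibleComponent⟩) (iUnion₂_subset fun Z hZ y hy => disjoint_left.1 hZ.2 hy)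
    refine disjoint_left.2 fun z hz hzx => hy ?_
    rw [connectedComponent_eq hzx]
    exact isIrreducible_irreducibleComponent.isConnected.2.subset_connectedComponent hz
      mem_irreducibleComponent
  rw [← isClosed_compl_iff, key]
  exact (NoetherianSpace.finite_irreducibleComponents.subset fun Z hZ => hZ.1).isClosed_biUnion
    fun Z hZ => isClosed_of_mem_irreducibleComponents Z hZ.1

variable (hT : ∀ x : T, ∃ U ∈ nhds x, NoetherianSpace U)

include hT in
theorem exists_open_noetherian_nhd (x : T) {V : Set T} (hV : V ∈ nhds x) :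
    ∃ U : Set T, IsOpen U ∧ x ∈ U ∧ U ⊆ V ∧ NoetherianSpace U := by
  obtain ⟨N, hN, hN'⟩ := hT x
  exact ⟨interior (N ∩ V), isOpen_interior, mem_interior_iff_mem_nhds.2 (Filter.inter_mem hN hV),
    interior_subset.trans inter_subset_right,
    (Topology.IsEmbedding.inclusion (interior_subset.trans inter_subset_left)).isInducing.noetherianSpace⟩

include hT in
theorem locallyConnectedSpace : LocallyConnectedSpace T := by
  refine locallyConnectedSpace_iff_subsets_isOpen_isConnected.2 fun x V hV => ?_
  obtain ⟨U, hU, hxU, hUV, _⟩ := exists_open_noetherian_nhd hT x hV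
  exact ⟨Subtype.val '' connectedComponent (⟨x, hxU⟩ : U),
    (Subtype.coe_image_subset _ _).trans hUV,
    hU.isOpenMap_subtype_val _ (isOpen_connectedComponent_of_noetherian _),
    ⟨⟨x, hxU⟩, mem_connectedComponent, rfl⟩,
    isConnected_connectedComponent.image _ continuous_subtype_val.continuousOn⟩

include hT in
theorem locallyFinite_irreducibleComponents :
    LocallyFinite (Subtype.val : irreducibleComponents T → Set T) := by
  intro x
  obtain ⟨U, hU, hxU, -, _⟩ := exists_open_noetherian_nhd hT x (V := univ) Filter.univ_mem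
  refine ⟨U, hU.mem_nhds hxU, ?_⟩
  refine Set.Finite.of_finite_image (f := fun Z => (Subtype.val : U → T) ⁻¹' (Z.1 : Set T)) ?_ ?_
  · refine (NoetherianSpace.finite_irreducibleComponents (α := U)).subset ?_
    rintro _ ⟨Z, hZ, rfl⟩
    exact preimage_mem_irreducibleComponents Z.2 hU.isOpenEmbedding_subtypeVal
      (by rw [Subtype.range_coe]; exact hZ)
  · rintro ⟨Z, hZ⟩ hZU ⟨Z', hZ'⟩ hZ'U he
    have hi : Z ∩ U = Z' ∩ U := by
      have := congrArg (Subtype.val '' ·) he
      simpa [Subtype.image_preimage_coe, inter_comm] using this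
    apply Subtype.ext
    calc Z = closure (Z ∩ U) := ((closure_minimal inter_subset_left
            (isClosed_of_mem_irreducibleComponents Z hZ)).antisymm
            (subset_closure_inter_of_isPreirreducible_of_isOpen hZ.1.2 hU hZU)).symm
      _ = closure (Z' ∩ U) := by rw [hi]
      _ = Z' := (closure_minimal inter_subset_left
            (isClosed_of_mem_irreducibleComponents Z' hZ')).antisymm
            (subset_closure_inter_of_isPreirreducible_of_isOpen hZ'.1.2 hU hZ'U)

include hT in
theorem isClosed_sUnion_components {S : Set (Set T)} (hS : S ⊆ irreducibleComponents T) :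
    IsClosed (⋃₀ S) := by
  rw [sUnion_eq_iUnion]
  exact ((locallyFinite_irreducibleComponents hT).comp_injective
    (g := fun Z : S => (⟨Z.1, hS Z.2⟩ : irreducibleComponents T))
    (fun a b h => Subtype.ext (Subtype.ext_iff.1 h :))).isClosed_iUnion
    fun Z => isClosed_of_mem_irreducibleComponents _ (hS Z.2)

include hT in
theorem exists_irreducible_nhd {x : T}
    (h : ∀ Z ∈ irreducibleComponents T, ∀ Z' ∈ irreducibleComponents T, x ∈ Z → x ∈ Z' → Z = Z') :
    ∃ U : Set T, IsOpen U ∧ x ∈ U ∧ IsIrreducible U := by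
  let S : Set (Set T) := {Z ∈ irreducibleComponents T | x ∉ Z}
  have hx : x ∈ (⋃₀ S)ᶜ := fun ⟨Z, hZ, hxZ⟩ => hZ.2 hxZ
  have hsub : (⋃₀ S)ᶜ ⊆ irreducibleComponent x := by
    intro y hy
    have hmem := irreducibleComponent_mem_irreducibleComponents y
    have hxy : x ∈ irreducibleComponent y := by_contra fun hn =>
      hy ⟨_, ⟨hmem, hn⟩, mem_irreducibleComponent⟩
    rw [h _ (irreducibleComponent_mem_irreducibleComponents x) _ hmem mem_irreducibleComponent hxy]
    exact mem_irreducibleComponent
  have hopen : IsOpen (⋃₀ S)ᶜ := (isClosed_sUnion_components hT fun Z hZ => hZ.1).isOpen_compl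
  exact ⟨_, hopen, hx, ⟨x, hx⟩,
    isIrreducible_irreducibleComponent.2.open_subset hopen hsub⟩

end Topology

variable {X Y : Scheme.{u}}

theorem exists_noetherian_nhd [IsLocallyNoetherian X] (x : X) :
    ∃ U ∈ nhds x, NoetherianSpace U := by
  obtain ⟨U, hU, hxU, -⟩ := exists_isAffineOpen_mem_and_subset (Opens.mem_top x)
  have : IsNoetherianRing Γ(X, U) := IsLocallyNoetherian.component_noetherian ⟨U, hU⟩
  exact ⟨(U : Set X), U.2.mem_nhds hxU, noetherianSpace_of_isAffineOpen U hU⟩

theorem fromSpecStalk_specializes (x : X) (z : Spec (X.presheaf.stalk x)) :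
    X.fromSpecStalk x z ⤳ x := by
  have : X.fromSpecStalk x z ∈ Set.range (X.fromSpecStalk x) := ⟨z, rfl⟩
  rwa [Scheme.range_fromSpecStalk] at this

theorem exists_fromSpecStalk_eq {x y : X} (h : y ⤳ x) :
    ∃ z, X.fromSpecStalk x z = y := by
  have : y ∈ Set.range (X.fromSpecStalk x) := by rwa [Scheme.range_fromSpecStalk]
  exact this

theorem closure_fromSpecStalk_mem_iff (x : X) (z : Spec (X.presheaf.stalk x)) :
    closure {X.fromSpecStalk x z} ∈ irreducibleComponents X ↔
      closure {z} ∈ irreducibleComponents (Spec (X.presheaf.stalk x) : Type u) := by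
  rw [closure_mem_irreducibleComponents_iff, closure_mem_irreducibleComponents_iff]
  constructor
  · intro h w hw
    exact (X.fromSpecStalk x).isEmbedding.isInducing.specializes_iff.1
      (h _ (hw.map (X.fromSpecStalk x).continuous))
  · intro h w hw
    obtain ⟨w, rfl⟩ := exists_fromSpecStalk_eq (hw.trans (fromSpecStalk_specializes x z))
    exact (h w ((X.fromSpecStalk x).isEmbedding.isInducing.specializes_iff.1 hw)).map
      (X.fromSpecStalk x).continuous

theorem bijOn_irreducibleComponents (x : X) :
    Set.BijOn (fun z : Spec (X.presheaf.stalk x) => closure ({X.fromSpecStalk x z} : Set X))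
      {z | closure ({z} : Set (Spec (X.presheaf.stalk x))) ∈
        irreducibleComponents (Spec (X.presheaf.stalk x) : Type u)}
      {Z | Z ∈ irreducibleComponents (X : Type u) ∧ x ∈ Z} := by
  refine ⟨fun z hz => ⟨(closure_fromSpecStalk_mem_iff x z).2 hz,
    specializes_iff_mem_closure.1 (fromSpecStalk_specializes x z)⟩, fun a _ b _ hab => ?_, ?_⟩
  · exact (X.fromSpecStalk x).isEmbedding.injective
      ((inseparable_iff_closure_eq.2 hab).eq)
  · rintro Z ⟨hZ, hxZ⟩
    obtain ⟨η, hη⟩ := QuasiSober.sober hZ.1 (isClosed_of_mem_irreducibleComponents Z hZ)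
    obtain ⟨z, rfl⟩ := exists_fromSpecStalk_eq (hη.specializes hxZ)
    exact ⟨z, (closure_fromSpecStalk_mem_iff x z).1 (hη.def.symm ▸ hZ), hη.def⟩

theorem isPrime_nilradical_stalk_iff (x : X) :
    (nilradical (X.presheaf.stalk x)).IsPrime ↔
      ∀ Z ∈ irreducibleComponents (X : Type u), ∀ Z' ∈ irreducibleComponents (X : Type u),
        x ∈ Z → x ∈ Z' → Z = Z' := by
  rw [← PrimeSpectrum.irreducibleSpace_iff_isPrime_nilradical]
  change IrreducibleSpace (Spec (X.presheaf.stalk x)) ↔ _
  constructor
  · intro h Z hZ Z' hZ' hxZ hxZ'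
    obtain ⟨z, hz, rfl⟩ := (bijOn_irreducibleComponents x).surjOn ⟨hZ, hxZ⟩
    obtain ⟨z', hz', rfl⟩ := (bijOn_irreducibleComponents x).surjOn ⟨hZ', hxZ'⟩
    rw [Set.mem_ofPred_eq, irreducibleComponents_eq_singleton, Set.mem_singleton_iff] at hz hz'
    rw [(inseparable_iff_closure_eq.2 (hz.trans hz'.symm)).eq]
  · intro h
    let c : Spec (X.presheaf.stalk x) := IsLocalRing.closedPoint (X.presheaf.stalk x)
    have key : ∀ a : Spec (X.presheaf.stalk x), irreducibleComponent a = irreducibleComponent c := by
      intro a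
      obtain ⟨g, hg⟩ := QuasiSober.sober (isIrreducible_irreducibleComponent (x := a))
        isClosed_irreducibleComponent
      obtain ⟨g', hg'⟩ := QuasiSober.sober (isIrreducible_irreducibleComponent (x := c))
        isClosed_irreducibleComponent
      have hgc : closure {g} ∈ irreducibleComponents (Spec (X.presheaf.stalk x) : Type u) := by
        rw [hg.def]; exact irreducibleComponent_mem_irreducibleComponents a
      have hgc' : closure {g'} ∈ irreducibleComponents (Spec (X.presheaf.stalk x) : Type u) := by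
        rw [hg'.def]; exact irreducibleComponent_mem_irreducibleComponents c
      have hm := (bijOn_irreducibleComponents x).mapsTo hgc
      have hm' := (bijOn_irreducibleComponents x).mapsTo hgc'
      have e : g = g' := (bijOn_irreducibleComponents x).injOn hgc hgc'
        (h _ hm.1 _ hm'.1 hm.2 hm'.2)
      rw [← hg.def, e, hg'.def]
    refine irreducibleSpace_def _ |>.2 ?_
    have : (univ : Set (Spec (X.presheaf.stalk x))) = irreducibleComponent c :=
      (eq_univ_of_forall fun a => key a ▸ mem_irreducibleComponent).symm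
    rw [Set.top_eq_univ, this]
    exact isIrreducible_irreducibleComponent

theorem exists_specializes_of_mem_closure_range (f : X ⟶ Y) [QuasiCompact f] {y : Y}
    (hy : y ∈ closure (Set.range f)) : ∃ x, f x ⤳ y := by
  obtain ⟨U, hU, hyU, -⟩ := exists_isAffineOpen_mem_and_subset (Opens.mem_top y)
  have : CompactSpace ↥(f ⁻¹ᵁ U) :=
    isCompact_iff_compactSpace.1 (f.isCompact_preimage hU.isCompact)
  obtain ⟨R, g, hg⟩ := (compactSpace_iff_exists (X := (f ⁻¹ᵁ U).toScheme)).1 this
  obtain ⟨φ, hφ⟩ := Spec.map_surjective (g ≫ (f ∣_ U) ≫ hU.isoSpec.hom)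
  let e := hU.isoSpec.hom.homeomorph
  have h1 : (⟨y, hyU⟩ : U.toScheme) ∈ closure (Set.range (f ∣_ U)) := by
    have hr1 : Set.range (f ∣_ U) = (fun z : U.toScheme => (z.1 : Y)) ⁻¹' Set.range f := by
      rw [morphismRestrict_base]
      exact Set.range_restrictPreimage _ _
    rw [hr1]
    exact (U.2.isOpenMap_subtype_val.preimage_closure_eq_closure_preimage
      continuous_subtype_val (Set.range f)).subset hy
  have h2' : e ⟨y, hyU⟩ ∈ closure (Set.range (Spec.map φ)) := by
    have hr : Set.range (Spec.map φ) = e '' Set.range (f ∣_ U) := by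
      rw [hφ, Scheme.Hom.comp_base, Scheme.Hom.comp_base, TopCat.coe_comp, TopCat.coe_comp,
        hg.range_comp, Set.range_comp]
      rfl
    rw [hr, ← e.image_closure]
    exact ⟨_, h1, rfl⟩
  have h2 : RingHom.ker φ.hom ≤ (e ⟨y, hyU⟩ : PrimeSpectrum Γ(Y, U)).asIdeal := by
    have h' : (e ⟨y, hyU⟩ : PrimeSpectrum Γ(Y, U)) ∈
        closure (Set.range (PrimeSpectrum.comap φ.hom)) := h2'
    exact (PrimeSpectrum.closure_range_comap φ.hom).subset h'
  obtain ⟨I, hI, hIle⟩ := Ideal.exists_minimalPrimes_le h2
  obtain ⟨p, hp, -, hpI⟩ := Ideal.exists_comap_eq_of_mem_minimalPrimes φ.hom (I := ⊥) I hI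
  have h3 : PrimeSpectrum.comap φ.hom ⟨p, hp⟩ ⤳ e ⟨y, hyU⟩ :=
    (PrimeSpectrum.le_iff_specializes _ _).1 (hpI.le.trans hIle)
  have h4 := (h3.map e.symm.continuous).map (continuous_subtype_val)
  rw [e.symm_apply_apply] at h4
  refine ⟨(f ⁻¹ᵁ U).ι (g ⟨p, hp⟩), ?_⟩
  have h5 : PrimeSpectrum.comap φ.hom ⟨p, hp⟩ = e ((f ∣_ U) (g ⟨p, hp⟩)) := by
    change Spec.map φ _ = _
    rw [hφ]
    rfl
  rw [h5, e.symm_apply_apply] at h4
  convert! h4 using 1
  rw [morphismRestrict_base]
  rfl

end Groth.Agent.SchPoints
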